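import Groth.Agent.H2.Rigid.SubDiagram
import Groth.Agent.Lib.Lim.Eventual
import Groth.Agent.Lib.Lim.Valuative
import Groth.Agent.Lib.Lim.FPDescend
import Groth.Agent.Lib.PicSurj.Noeth

/-!
# Finite type descends along proper surjective morphisms (Noetherian, reduced target)
-/

set_option autoImplicit false
set_option backward.isDefEq.respectTransparency false
set_option linter.style.haveILetI false

universe u

open CategoryTheory CategoryTheory.Limits AlgebraicGeometry Opposite
open Groth.Agent.Lib Groth.Agent.Lib.Lim Groth.Agent.Lib.Lim.Basic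

noncomputable section

namespace Groth.Agent.H58LFT

section Diagram

variable (A : Type u) [CommRing A] (B : Type u) [CommRing B] [Algebra A B]

/-- The finitely generated `A`-subalgebras. -/
def ringDiagram : Finset B ⥤ CommRingCat.{u} where
  obj s := CommRingCat.of (Algebra.adjoin A (s : Set B))
  map {s t} h := CommRingCat.ofHom
    (Subalgebra.inclusion (Algebra.adjoin_mono (R := A) (Finset.coe_subset.2 (leOfHom h)))).toRingHom
  map_id s := by ext x; rfl
  map_comp _ _ := by ext x; rfl

/-- The ring is the union. -/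
def ringCocone : Cocone (ringDiagram A B) where
  pt := CommRingCat.of B
  ι := { app := fun s => CommRingCat.ofHom (Algebra.adjoin A (s : Set B)).val.toRingHom
         naturality := fun _ _ _ => by ext x; rfl }

/-- The ring is the colimit of its finitely generated subalgebras. -/
def isColimitRingCocone : IsColimit (ringCocone A B) := by
  classical
  haveI : IsFiltered (Finset B) := inferInstance
  haveI : PreservesColimit (ringDiagram A B) (forget CommRingCat.{u}) := inferInstance
  haveI : ReflectsColimit (ringDiagram A B) (forget CommRingCat.{u}) :=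
    reflectsColimit_of_reflectsIsomorphisms _ _
  apply isColimitOfReflects (forget CommRingCat.{u})
  refine Types.FilteredColimit.isColimitOf' _ _ (fun x => ?_) (fun i x y h => ?_)
  · exact ⟨{(x : B)}, ⟨x, Algebra.subset_adjoin (Finset.mem_coe.2 (Finset.mem_singleton_self _))⟩, rfl⟩
  · exact ⟨i, 𝟙 i, by rw [Subtype.ext (h : (x : Algebra.adjoin A (i : Set B)).1 = y.1)]⟩

/-- The spectra of the finitely generated subalgebras. -/
def diagram : (Finset B)ᵒᵖ ⥤ Scheme.{u} := (ringDiagram A B).op ⋙ Scheme.Spec

/-- The cone with point `Spec B`. -/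
def cone : Cone (diagram A B) := Scheme.Spec.mapCone (ringCocone A B).op

/-- `Spec B` is the limit. -/
def isLimitCone : IsLimit (cone A B) :=
  isLimitOfPreserves Scheme.Spec (isColimitRingCocone A B).op

instance isAffine_obj (s : (Finset B)ᵒᵖ) : IsAffine ((diagram A B).obj s) :=
  inferInstanceAs (IsAffine (Spec _))

instance isAffineHom_map {s t : (Finset B)ᵒᵖ} (h : s ⟶ t) : IsAffineHom ((diagram A B).map h) :=
  isAffineHom_of_isAffine _

/-- The maps to the base. -/
def toBase : diagram A B ⟶ (Functor.const (Finset B)ᵒᵖ).obj (Spec (CommRingCat.of A)) where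
  app s := Spec.map (CommRingCat.ofHom (algebraMap A (Algebra.adjoin A ((s.unop : Finset B) : Set B))))
  naturality s t h := by
    refine Eq.trans ?_ (Category.comp_id _).symm
    exact (Spec.map_comp _ _).symm

end Diagram

/-- The finite type property descends along a proper surjective morphism onto a reduced affine scheme. -/
theorem finiteType_of_proper_surjective (A : Type u) [CommRing A] [IsNoetherianRing A] (B : Type u) [CommRing B]
    [IsNoetherianRing B] [IsReduced B] [Algebra A B] {W : Scheme.{u}} (q : W ⟶ Spec (CommRingCat.of B))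
    [IsProper q] [LocallyOfFinitePresentation q] [Surjective q]
    [LocallyOfFiniteType (q ≫ Spec.map (CommRingCat.ofHom (algebraMap A B)))] : Algebra.FiniteType A B := by
  classical
  let D := diagram A B
  let c := cone A B
  let hc : IsLimit c := isLimitCone A B
  haveI : ∀ i, CompactSpace (D.obj i) := fun i => inferInstance
  haveI : ∀ i, QuasiSeparatedSpace (D.obj i) := fun i => inferInstance
  haveI : CompactSpace W := QuasiCompact.compactSpace_of_compactSpace q
  haveI : QuasiSeparatedSpace W := quasiSeparatedSpace_of_quasiSeparated q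
  let q' : W ⟶ c.pt := q
  haveI : IsProper q' := ‹IsProper q›
  haveI : LocallyOfFinitePresentation q' := ‹LocallyOfFinitePresentation q›
  obtain ⟨i₀, Y, g, r, hYc, hYq, hg, hsq⟩ := FPDescend.exists_descent hc q'
  haveI := hg
  obtain ⟨i, φ, hproper⟩ := Valuative.isProper_descends D c hc (fun _ _ a => inferInstance) i₀
    inferInstance inferInstance g hYc hYq inferInstance q' r hsq inferInstance
  let Y₁ := pullback g (D.map φ)
  let g₁ : Y₁ ⟶ D.obj i := pullback.snd g (D.map φ)
  haveI : IsProper g₁ := hproper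
  let r₁ : W ⟶ Y₁ := pullback.lift r (q' ≫ c.π.app i) (by rw [Category.assoc, c.w, hsq.w])
  have hsq₁ : IsPullback r₁ q' g₁ (c.π.app i) := FPDescend.move hsq φ
  let DX := bcDiagram D g₁
  let cX : Cone DX := bcCone hsq₁.w
  have hcX : IsLimit cX := isLimitBcCone hc hsq₁
  haveI : ∀ j : Over i, CompactSpace ((Over.forget i ⋙ D).obj j) := fun j => inferInstanceAs (CompactSpace (D.obj j.left))
  haveI : ∀ j, CompactSpace (DX.obj j) := fun j => by
    haveI : IsProper ((bcSnd D g₁).app j) := MorphismProperty.pullback_snd (P := @IsProper) g₁ (D.map j.hom) hproper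
    exact QuasiCompact.compactSpace_of_compactSpace ((bcSnd D g₁).app j : DX.obj j ⟶ D.obj j.left)
  haveI : ∀ {a b : Over i} (h : a ⟶ b), IsAffineHom (DX.map h) := fun h =>
    MorphismProperty.of_isPullback (P := @IsAffineHom) (isPullback_bcDiagram_map D g₁ h).flip
      (inferInstanceAs (IsAffineHom (D.map h.left)))
  let t : DX ⟶ (Functor.const (Over i)).obj (Spec (CommRingCat.of A)) :=
    bcSnd D g₁ ≫ Functor.whiskerLeft (Over.forget i) (toBase A B)
  let o : Over i := Over.mk (𝟙 i)
  have ht : (𝟙 cX.pt) ≫ cX.π.app o ≫ t.app o = q ≫ Spec.map (CommRingCat.ofHom (algebraMap A B)) := by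
    show 𝟙 W ≫ pullback.lift r₁ (q' ≫ c.π.app i) _ ≫ pullback.snd g₁ (D.map (𝟙 i)) ≫ (toBase A B).app i = _
    rw [Category.id_comp, pullback.lift_snd_assoc, Category.assoc]
    exact congrArg (q ≫ ·) (Spec.map_comp _ _).symm
  haveI : LocallyOfFiniteType ((𝟙 cX.pt) ≫ cX.π.app o ≫ t.app o) := by rw [ht]; infer_instance
  obtain ⟨j, hj⟩ := Eventual.exists_isClosedImmersion_comp t hcX (𝟙 cX.pt) o
  let s : Finset B := j.left.unop
  let R := Algebra.adjoin A (s : Set B)
  haveI : Algebra.FiniteType A R :=
    (Subalgebra.fg_iff_finiteType _).1 (Subalgebra.fg_def.2 ⟨_, s.finite_toSet, rfl⟩)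
  haveI : IsNoetherianRing R := Algebra.FiniteType.isNoetherianRing A R
  let p : W ⟶ Spec (CommRingCat.of R) := q ≫ Spec.map (CommRingCat.ofHom R.val.toRingHom)
  have hp : IsProper p := by
    have hbs : IsProper ((bcSnd D g₁).app j) :=
      MorphismProperty.pullback_snd (P := @IsProper) g₁ (D.map j.hom) hproper
    haveI := hbs
    have e : p = ((𝟙 cX.pt) ≫ cX.π.app j) ≫ (bcSnd D g₁).app j := by
      show q' ≫ c.π.app j.left = (𝟙 W ≫ pullback.lift r₁ (q' ≫ c.π.app j.left) _) ≫ pullback.snd g₁ (D.map j.hom)
      rw [Category.id_comp, pullback.lift_snd]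
    rw [e]; infer_instance
  haveI := hp
  letI : W.Over (Spec (CommRingCat.of R)) := ⟨p⟩
  haveI : IsProper (W ↘ Spec (CommRingCat.of R)) := hp
  haveI : Module.Finite R (Coh.HH W (Coh.structureModule W) 0) :=
    S0002.result R W _ (Snapper.Twist.isCoh_structureModule W) 0
  letI := Curves.GlobalSections.secModule R (Coh.structureModule W)
  have hfin : Module.Finite R ((Coh.structureModule W).val.obj (op ⊤) : Type u) :=
    Module.Finite.equiv (Curves.GlobalSections.h0Linear R (Coh.structureModule W))
  letI : Algebra R Γ(W, ⊤) := (Coh.toGlobal (W ↘ Spec (CommRingCat.of R))).toAlgebra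
  haveI : Module.Finite R Γ(W, ⊤) := hfin
  haveI : IsNoetherian R Γ(W, ⊤) := inferInstance
  let ψ : B →+* Γ(W, ⊤) := ((Scheme.ΓSpecIso (CommRingCat.of B)).inv ≫ q.appTop).hom
  have hψ : ∀ a : R, ψ (a : B) = algebraMap R Γ(W, ⊤) a := fun a => by
    show ((Scheme.ΓSpecIso (CommRingCat.of B)).inv ≫ q.appTop).hom (R.val.toRingHom a) =
      Coh.toGlobal (W ↘ Spec (CommRingCat.of R)) a
    rw [Coh.toGlobal]
    show _ = (((Scheme.ΓSpecIso (CommRingCat.of R)).inv ≫ p.appTop).hom) a
    simp only [p, Scheme.Hom.comp_appTop, ← Scheme.ΓSpecIso_inv_naturality_assoc]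
    rfl
  have hinj : Function.Injective ψ := by
    rw [injective_iff_map_eq_zero]
    intro b hb
    have h0 : q ⁻¹ᵁ (Spec (CommRingCat.of B)).basicOpen ((Scheme.ΓSpecIso (CommRingCat.of B)).inv b) = ⊥ := by
      rw [Scheme.preimage_basicOpen_top]
      have : q.appTop ((Scheme.ΓSpecIso (CommRingCat.of B)).inv b) = 0 := hb
      rw [this, Scheme.basicOpen_zero]
    have h1 : PrimeSpectrum.basicOpen b = ⊥ := by
      rw [eq_bot_iff]
      intro x hx
      obtain ⟨w, rfl⟩ := q.surjective x
      have hw : w ∈ q ⁻¹ᵁ (Spec (CommRingCat.of B)).basicOpen ((Scheme.ΓSpecIso (CommRingCat.of B)).inv b) := by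
        rw [basicOpen_eq_of_affine]; exact hx
      rw [h0] at hw; exact hw.elim
    exact (PrimeSpectrum.basicOpen_eq_bot_iff b).1 h1 |>.eq_zero
  let ψ' : B →ₗ[R] Γ(W, ⊤) :=
    { toFun := ψ, map_add' := map_add ψ
      map_smul' := fun a b => by
        rw [Algebra.smul_def, map_mul, RingHom.id_apply, Algebra.smul_def]
        exact congrArg (· * ψ b) (hψ a) }
  haveI : Module.Finite R B := Module.Finite.of_injective ψ' hinj
  exact Algebra.FiniteType.trans (R := A) (S := R) (A := B) inferInstance inferInstance

end Groth.Agent.H58LFT
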