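import Groth.Agent.Lib.Subtrusive.Noetherian
import Mathlib.RingTheory.Ideal.MinimalPrime.Basic
import Mathlib.AlgebraicGeometry.Pullbacks
import Mathlib.RingTheory.PowerSeries.Inverse

/-!
# Universally injective ring maps are universally submersive (Noetherian base)
-/

set_option autoImplicit false
set_option backward.isDefEq.respectTransparency false
set_option linter.style.haveILetI false

universe u

open CategoryTheory CategoryTheory.Limits AlgebraicGeometry TensorProduct Subtr
open Groth.Agent.Lib.Subtrusive.Valuation Groth.Agent.Lib.Subtrusive.Criterion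
open Groth.Agent.Lib.Subtrusive

namespace Groth.Agent.H58LFT.Pure

variable (A R : Type u) [CommRing A] [CommRing R] [Algebra A R]

/-- A pair of points over the generic and the closed point of a discrete valuation ring. -/
theorem exists_pair (hpure : ∀ (N : Type u) [AddCommGroup N] [Module A N] (x : N), (1 : R) ⊗ₜ[A] x = 0 → x = 0)
    (D : Type u) [CommRing D] [IsDomain D] [IsDiscreteValuationRing D] [Algebra A D] :
    ∃ Q' Q : PrimeSpectrum (R ⊗[A] D), Q' ⤳ Q ∧
      PrimeSpectrum.comap (Algebra.TensorProduct.includeRight.toRingHom : D →+* R ⊗[A] D) Q' = genPt D ∧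
      PrimeSpectrum.comap (Algebra.TensorProduct.includeRight.toRingHom : D →+* R ⊗[A] D) Q = clPt D := by
  classical
  obtain ⟨t, ht⟩ := IsDiscreteValuationRing.exists_irreducible D
  let ι : D →+* R ⊗[A] D := Algebra.TensorProduct.includeRight.toRingHom
  let τ : R ⊗[A] D := ι t
  let J : Ideal (R ⊗[A] D) :=
    { carrier := {x | ∃ n : ℕ, τ ^ n * x = 0}
      add_mem' := by
        rintro a b ⟨m, hm⟩ ⟨n, hn⟩
        exact ⟨m + n, by linear_combination τ ^ n * hm + τ ^ m * hn⟩
      zero_mem' := ⟨0, mul_zero _⟩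
      smul_mem' := by
        rintro c x ⟨n, hn⟩
        exact ⟨n, by rw [smul_eq_mul, mul_left_comm, hn, mul_zero]⟩ }
  have hne : J ⊔ Ideal.span {τ} ≠ ⊤ := by
    intro htop
    obtain ⟨j, ⟨n, hn⟩, y, hy, hjy⟩ := Submodule.mem_sup.1 ((Ideal.eq_top_iff_one _).1 htop)
    obtain ⟨c, rfl⟩ := Ideal.mem_span_singleton'.1 hy
    have h1 : τ ^ n = c * τ ^ (n + 1) := by
      have h := congrArg (τ ^ n * ·) hjy
      simp only [mul_add, hn, zero_add, mul_one] at h
      rw [← h]; ring
    let I : Ideal D := Ideal.span {t ^ (n + 1)}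
    let F : R ⊗[A] D →ₐ[A] R ⊗[A] (D ⧸ I) := Algebra.TensorProduct.map (AlgHom.id A R) (Ideal.Quotient.mkₐ A I)
    have hF : F (τ ^ (n + 1)) = 0 := by
      show F (ι t ^ (n + 1)) = 0
      rw [← map_pow ι]
      show (1 : R) ⊗ₜ[A] (Ideal.Quotient.mk I (t ^ (n + 1))) = 0
      rw [Ideal.Quotient.eq_zero_iff_mem.2 (Ideal.mem_span_singleton_self _), tmul_zero]
    have h2 : (1 : R) ⊗ₜ[A] (Ideal.Quotient.mk I (t ^ n)) = 0 := by
      have : F (τ ^ n) = 0 := by rw [h1, map_mul, hF, mul_zero]
      rw [show τ ^ n = ι (t ^ n) from (map_pow ι t n).symm] at this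
      exact this
    have h3 := Ideal.mem_span_singleton.1 (Ideal.Quotient.eq_zero_iff_mem.1 (hpure _ _ h2))
    exact absurd ((pow_dvd_pow_iff ht.ne_zero ht.not_isUnit).1 h3) (by omega)
  obtain ⟨Q, hQ, hle⟩ := Ideal.exists_le_maximal _ hne
  haveI := hQ.isPrime
  obtain ⟨Q', hQ', hQ'le⟩ := Ideal.exists_minimalPrimes_le (I := J) (le_sup_left.trans hle)
  haveI : Q'.IsPrime := hQ'.1.1
  have hτQ : τ ∈ Q := hle ((le_sup_right : Ideal.span {τ} ≤ J ⊔ Ideal.span {τ}) (Ideal.mem_span_singleton_self τ))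
  have hτQ' : τ ∉ Q' := by
    intro hmem
    have hnz : Ideal.Quotient.mk J τ ∈ nonZeroDivisors ((R ⊗[A] D) ⧸ J) := by
      rw [mem_nonZeroDivisors_iff_right]
      intro x hx
      obtain ⟨x, rfl⟩ := Ideal.Quotient.mk_surjective x
      rw [← map_mul, Ideal.Quotient.eq_zero_iff_mem] at hx
      obtain ⟨n, hn⟩ := hx
      exact Ideal.Quotient.eq_zero_iff_mem.2 ⟨n + 1, by rw [pow_succ, mul_assoc, mul_comm τ x, hn]⟩
    have hker : J ≤ Q' := hQ'.1.2
    have hmin : Q'.map (Ideal.Quotient.mk J) ∈ minimalPrimes ((R ⊗[A] D) ⧸ J) := by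
      refine ⟨⟨Ideal.map_isPrime_of_surjective Ideal.Quotient.mk_surjective (by rwa [Ideal.mk_ker]), bot_le⟩, ?_⟩
      rintro P ⟨hP, -⟩ hPle
      haveI := hP
      have hc : Q' ≤ P.comap (Ideal.Quotient.mk J) := hQ'.2 ⟨inferInstance, fun x hx => by
        show Ideal.Quotient.mk J x ∈ P
        rw [Ideal.Quotient.eq_zero_iff_mem.2 hx]; exact zero_mem _⟩ (fun x hx => by
        have h := hPle hx
        rw [Ideal.mem_map_iff_of_surjective _ Ideal.Quotient.mk_surjective] at h
        obtain ⟨y, hy, hyx⟩ := h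
        rw [Ideal.Quotient.eq] at hyx
        have := Q'.sub_mem hy (hker hyx)
        rwa [sub_sub_cancel] at this)
      exact Ideal.map_le_iff_le_comap.2 hc
    exact Set.disjoint_left.1 (Ideal.disjoint_nonZeroDivisors_of_mem_minimalPrimes hmin)
      (Ideal.mem_map_of_mem _ hmem) hnz
  refine ⟨⟨Q', inferInstance⟩, ⟨Q, inferInstance⟩, (PrimeSpectrum.le_iff_specializes _ _).1 hQ'le,
    PrimeSpectrum.ext ?_, PrimeSpectrum.ext ?_⟩
  · show Q'.comap ι = (⊥ : Ideal D)
    by_contra h
    have hm : Q'.comap ι = IsLocalRing.maximalIdeal D :=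
      IsLocalRing.eq_maximalIdeal ((inferInstance : (Q'.comap ι).IsPrime).isMaximal h)
    exact hτQ' (hm.ge (by rw [IsLocalRing.mem_maximalIdeal]; exact ht.not_isUnit))
  · show Q.comap ι = IsLocalRing.maximalIdeal D
    exact IsLocalRing.eq_maximalIdeal ((inferInstance : (Q.comap ι).IsPrime).isMaximal
      (Submodule.ne_bot_iff _ |>.2 ⟨t, hτQ, ht.ne_zero⟩))

/-- A universally injective ring map out of a Noetherian ring is universally submersive. -/
theorem univSubmersive_of_pure [IsNoetherianRing A]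
    (hpure : ∀ (N : Type u) [AddCommGroup N] [Module A N] (x : N), (1 : R) ⊗ₜ[A] x = 0 → x = 0) :
    SGA1.UnivSubmersive (Spec.map (CommRingCat.ofHom (algebraMap A R))) := by
  let f := Spec.map (CommRingCat.ofHom (algebraMap A R))
  have hpair : ∀ (D : Type u) [CommRing D] [IsDomain D] [IsDiscreteValuationRing D]
      (g : Spec (CommRingCat.of D) ⟶ Spec (CommRingCat.of A)),
      ∃ w w' : ↑(pullback f g), w' ⤳ w ∧ pullback.snd f g w = clPt D ∧ pullback.snd f g w' = genPt D := by
    intro D _ _ _ g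
    obtain ⟨ψ, rfl⟩ := Spec.map_surjective g
    letI : Algebra A D := ψ.hom.toAlgebra
    obtain ⟨Q', Q, hs, hg, hc⟩ := exists_pair A R hpure D
    let e := pullbackSpecIso A R D
    refine ⟨e.inv Q, e.inv Q', hs.map e.inv.continuous, ?_, ?_⟩
    · exact (congrArg (fun m : Spec (CommRingCat.of (R ⊗[A] D)) ⟶ Spec (CommRingCat.of D) => m Q)
        (pullbackSpecIso_inv_snd A R D)).trans hc
    · exact (congrArg (fun m : Spec (CommRingCat.of (R ⊗[A] D)) ⟶ Spec (CommRingCat.of D) => m Q')
        (pullbackSpecIso_inv_snd A R D)).trans hg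
  refine Submersive.univSubmersive_of_univSSubtrusive f
    (univSSubtrusive_of_hasLifts (AffineSpace.hasLifts_of_affineSpace f fun n _ => ?_))
  let Y := Spec (CommRingCat.of A)
  let p := AlgebraicGeometry.AffineSpace (ULift.{u} (Fin n)) Y ↘ Y
  haveI : IsLocallyNoetherian (AlgebraicGeometry.AffineSpace (ULift.{u} (Fin n)) Y) :=
    LocallyOfFiniteType.isLocallyNoetherian p
  intro z z' h
  by_cases hne : z' = z
  · haveI : IsDiscreteValuationRing (PowerSeries ((AlgebraicGeometry.AffineSpace (ULift.{u} (Fin n)) Y).residueField z : Type u)) := inferInstance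
    haveI : IsDomain (PowerSeries ((AlgebraicGeometry.AffineSpace (ULift.{u} (Fin n)) Y).residueField z : Type u)) := inferInstance
    obtain ⟨w, -, -, hw, -⟩ := hpair (PowerSeries ((AlgebraicGeometry.AffineSpace (ULift.{u} (Fin n)) Y).residueField z))
      (Spec.map (CommRingCat.ofHom (PowerSeries.C)) ≫ Scheme.fromSpecResidueField _ z ≫ p)
    let l := pullback.lift (f := f) (g := p) (pullback.fst _ _)
      (pullback.snd f _ ≫ Spec.map (CommRingCat.ofHom PowerSeries.C) ≫ Scheme.fromSpecResidueField _ z)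
      (by simp only [Category.assoc]; exact pullback.condition)
    refine ⟨l w, l w, specializes_refl _, ?_, ?_⟩
    · rw [← Scheme.Hom.comp_apply, pullback.lift_snd, Scheme.Hom.comp_apply, Scheme.Hom.comp_apply]
      exact Scheme.fromSpecResidueField_apply _ _
    · rw [← Scheme.Hom.comp_apply, pullback.lift_snd, Scheme.Hom.comp_apply, Scheme.Hom.comp_apply, hne]
      exact Scheme.fromSpecResidueField_apply _ _
  obtain ⟨D, _, _, _, g, hg1, hg2⟩ := Noetherian.exists_dvr_of_specializes h hne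
  obtain ⟨w, w', hw, hwc, hwg⟩ := hpair D (g ≫ p)
  let l := pullback.lift (f := f) (g := p) (pullback.fst f (g ≫ p)) (pullback.snd f (g ≫ p) ≫ g)
    (by rw [pullback.condition, Category.assoc])
  refine ⟨l w, l w', hw.map l.continuous, ?_, ?_⟩
  · rw [← Scheme.Hom.comp_apply, pullback.lift_snd, Scheme.Hom.comp_apply, hwc, hg2]
  · rw [← Scheme.Hom.comp_apply, pullback.lift_snd, Scheme.Hom.comp_apply, hwg, hg1]

end Groth.Agent.H58LFT.Pure
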