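import Groth.Agent.H14.UB.Noeth
import Groth.Agent.S17518
import Groth.Agent.H58LFT.Pure

/-!
# A good moduli space of a stack of finite type is locally of finite type
-/

set_option autoImplicit false
set_option backward.isDefEq.respectTransparency false
set_option backward.isDefEq.respectTransparency.types false
set_option linter.style.haveILetI false

universe u

open CategoryTheory CategoryTheory.Limits AlgebraicGeometry Opposite TensorProduct
open StMod (sch bmap fibCat etaOf baseOver)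
open Groth.Agent.Lib Groth.Agent.Lib.AlgStack
open Groth.Agent.H14 Groth.Agent.H14.ModDesc Groth.Agent.H14.UB
open FibCat (IsFibGrpd fp fpFst overCat toSelf)
open AlgSt (IsAlgStack ofSp ofSpMap overMap RepByAlgSpWith)
open AlgSp (LocP)
open Groth.Agent.H14.GenFam (FlatFun Cover exists_obj isFibGrpd_fibCat Chart2)
open Groth.Agent.H14.CohBC (CompactPullbacks lifts_affine exists_univ Univ)
open Groth.Agent.H14.MultiExt (MChart)

namespace Groth.Agent.H58LFT.GoodFT

variable {S : Scheme.{u}}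

set_option maxHeartbeats 1600000 in
/-- The cover is universally injective. -/
theorem pure_of_finite_covers {𝒵 : AlgSt.Cat S} (hfib : FibCat.IsFibGrpd 𝒵.p) (hL : CohBC.Lifts 𝒵)
    {A : Type u} [CommRing A] {st : AStr 𝒵 A} (C : Chart2 𝒵) (hU : st.IsUnit' (ofChart2 C))
    {K : Type u} [Finite K] (D : Cover C.x K) (d : K → 𝒵.obj) (hd : ∀ k, IsAffine (sch 𝒵 (d k)))
    (c : ∀ k, D.E k ⟶ d k) (N : Type u) [AddCommGroup N] [Module A N] (x : N)
    (hx0 : ∀ k, GenFam.Ext.mk (st.hom (d k)) N x = 0) : x = 0 := by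
  refine AStr.eq_zero_of_mk (st := st) (C := ofChart2 C) hfib hL hU x fun o ho hh => ?_
  have hx : GenFam.Ext.mk (st.hom C.x) N x = 0 := by
    haveI := C.affx
    refine GenFam.eqΦ (st.tens N) D fun k => ?_
    haveI := hd k
    show st.res _ (D.e k) _ = st.res _ (D.e k) 0
    rw [map_zero, st.res_mk, ← st.res_mk _ (c k), hx0 k, map_zero]
  obtain ⟨i, ⟨b⟩⟩ := hh
  rw [← st.res_mk _ b]
  exact (congrArg (st.res _ b) hx).trans (map_zero _)

variable {𝒳 : AlgSt.Cat S} {M : AlgSp.Space S} {π : 𝒳 ⥤ᵇ ofSp M.obj}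

set_option maxHeartbeats 1600000 in
/-- Affine etale schemes over the good moduli space are locally of finite type over the base. -/
theorem lft_etale [IsNoetherian S] (h𝒳 : IsAlgStack Scheme.fppfPrecoverage 𝒳) (hM : CompactPullbacks M.obj)
    (hqc : AlgSt.IsQuasiCompactMor Scheme.fppfPrecoverage π) (hqs : AlgSt.IsQuasiSeparatedMor π)
    (h : StMod.IsGoodModuli π) {U₀ : Over S} [LocallyOfFiniteType U₀.hom] (x₀ : overCat U₀ ⥤ᵇ 𝒳)
    (hxs : RepByAlgSpWith (LocP @Smooth) x₀) (hxe : RepByAlgSpWith AlgSp.IsSurjectiveMor x₀)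
    (E : AlgSp.EtOver M.obj) (hE : IsAffine E.obj.left.left) [IsNoetherianRing Γ(E.obj.left.left, ⊤)] :
    LocallyOfFiniteType E.obj.left.hom := by
  classical
  haveI hU₀ : IsLocallyNoetherian U₀.left := LocallyOfFiniteType.isLocallyNoetherian U₀.hom
  have hX := h𝒳.isStack.1
  have hMs := IsAlg.isAlgStack_ofSp M
  let ξ₀ := x₀.obj (Over.mk (𝟙 U₀))
  haveI hE' : IsAffine (sch (ofSp M.obj) (etaOf E)) := hE
  let η := etaOf E
  obtain ⟨C⟩ := GenFam.exists_chart2_at π h𝒳 hMs hqc hqs η hE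
  obtain ⟨Z⟩ := exists_univ (π := π) E hX ξ₀
  have hfib := isFibGrpd_fibCat hX π η
  haveI hξ : LocallyOfFiniteType (𝒳.p.obj ξ₀).hom := by
    rw [show 𝒳.p.obj ξ₀ = U₀ from x₀.w_obj _]; infer_instance
  haveI hZl : LocallyOfFiniteType (𝒳.p.obj Z.z.left).hom := by
    have := Z.etale
    rw [← Over.w (𝒳.p.map Z.m)]
    exact MorphismProperty.comp_mem _ (bmap 𝒳 Z.m) _ inferInstance hξ
  haveI : IsAffine (sch 𝒳 C.x.left) := C.affx
  obtain ⟨n, D₀, hD₀⟩ := GenFam.exists_cover_chart hX hxs hxe C.x.left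
  let oE : Fin n → (fibCat π η).obj := fun j => CostructuredArrow.mk (π.map (D₀.e j) ≫ C.x.hom)
  let eE : ∀ j, oE j ⟶ C.x := fun j => CostructuredArrow.homMk (D₀.e j) rfl
  choose f hf using fun j => Z.lift (oE j) (hD₀ j).some
  have hW : ∀ j (v : sch (fibCat π η) (oE j)), ∃ (W : (sch (fibCat π η) Z.z).Opens)
      (Q : (sch (fibCat π η) (oE j)).Opens), IsAffineOpen W ∧ IsAffineOpen Q ∧ v ∈ Q ∧
        Q ≤ bmap (fibCat π η) (f j) ⁻¹ᵁ W := fun j v => by
    obtain ⟨W, hW, hv, -⟩ := exists_isAffineOpen_mem_and_subset (X := sch (fibCat π η) Z.z)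
      (x := bmap (fibCat π η) (f j) v) (U := ⊤) trivial
    obtain ⟨Q, hQ, hvQ, hQW⟩ := exists_isAffineOpen_mem_and_subset (X := sch (fibCat π η) (oE j))
      (x := v) (U := bmap (fibCat π η) (f j) ⁻¹ᵁ W) hv
    exact ⟨W, Q, hW, hQ, hvQ, hQW⟩
  choose W Q hWa hQa hvQ hQW using hW
  have hfin : ∀ j, ∃ F : Finset (sch (fibCat π η) (oE j)), ∀ v, ∃ w ∈ F, v ∈ Q j w := fun j => by
    haveI : IsAffine (sch (fibCat π η) (oE j)) := D₀.aff j
    obtain ⟨F, hF⟩ := isCompact_univ.elim_finite_subcover (fun v => (Q j v : Set (sch (fibCat π η) (oE j))))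
      (fun v => (Q j v).2) fun v _ => Set.mem_iUnion.2 ⟨v, hvQ j v⟩
    exact ⟨F, fun v => by simpa using hF (Set.mem_univ v)⟩
  choose F hF using hfin
  let J : Type u := Σ j : ULift.{u} (Fin n), { v // v ∈ F j.down }
  choose d θ i hθ using fun t : J => exists_obj hfib Z.z (W t.1.down t.2.1).ι
  choose q κ i' hκ using fun t : J => exists_obj hfib (oE t.1.down) (Q t.1.down t.2.1).ι
  have hfac : ∀ t : J, ∃ c : q t ⟶ d t, c ≫ θ t = κ t ≫ f t.1.down := fun t => by
    haveI : IsOpenImmersion (bmap (fibCat π η) (θ t)) := by rw [hθ]; infer_instance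
    refine MultiExt.exists_factor hfib (θ t) _ ?_
    rintro _ ⟨y, rfl⟩
    refine ⟨(i t).inv ⟨_, hQW t.1.down t.2.1 ((i' t).hom y).2⟩, ?_⟩
    rw [hθ, StMod.bmap_comp, hκ, ← Scheme.Hom.comp_apply]
    simp only [Iso.inv_hom_id_assoc]
    rfl
  choose c hc using hfac
  haveI hda : ∀ t : J, IsAffine (sch (fibCat π η) (d t)) := fun t => by
    haveI : IsAffine (W t.1.down t.2.1).toScheme := hWa t.1.down t.2.1
    exact IsAffine.of_isIso (i t).hom
  haveI hdl : ∀ t : J, LocallyOfFiniteType (𝒳.p.obj (d t).left).hom := fun t => by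
    haveI : IsOpenImmersion (bmap (fibCat π η) (θ t)) := by rw [hθ]; infer_instance
    rw [← Over.w (𝒳.p.map (θ t).left)]
    exact MorphismProperty.comp_mem _ (bmap (fibCat π η) (θ t)) _ inferInstance hZl
  let D : Cover C.x J := ⟨q, fun t => by
      haveI : IsAffine (Q t.1.down t.2.1).toScheme := hQa t.1.down t.2.1
      exact IsAffine.of_isIso (i' t).hom, fun t => κ t ≫ eE t.1.down, fun t => by
      rw [StMod.bmap_comp, hκ]
      haveI : Flat (bmap (fibCat π η) (eE t.1.down)) := D₀.flat t.1.down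
      infer_instance, fun v => by
      obtain ⟨j, w, hw⟩ := D₀.surj v
      obtain ⟨v', hv', hwv'⟩ := hF j w
      refine ⟨⟨⟨j⟩, v', hv'⟩, (i' ⟨⟨j⟩, v', hv'⟩).inv ⟨w, hwv'⟩, ?_⟩
      rw [StMod.bmap_comp, hκ, ← Scheme.Hom.comp_apply]
      simp only [Category.assoc, Iso.inv_hom_id_assoc]
      exact hw⟩
  let A : Type u := Γ(sch (ofSp M.obj) η, ⊤)
  let Rc : J → CommRingCat.{u} := fun t => Γ(sch 𝒳 (d t).left, ⊤)
  let st : AStr (fibCat π η) Γ(sch (ofSp M.obj) η, ⊤) := astr π η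
  letI algR : ∀ t, Algebra A (Rc t) := fun t => (st.hom (d t)).toAlgebra
  have hpure : ∀ (N : Type u) [AddCommGroup N] [Module A N] (x : N),
      (1 : ∀ t, Rc t) ⊗ₜ[A] x = 0 → x = 0 := fun N _ _ x hx => by
    refine pure_of_finite_covers (st := st) hfib (lifts_affine π h𝒳 hM hqc hqs h.1 η hE) C
      (isUnit'_astr hX (h.2 E) (ofChart2 C)) D d hda c N x fun t => ?_
    exact (congrArg (TensorProduct.map (Pi.evalAlgHom A (fun t => (Rc t : Type u)) t).toLinearMap LinearMap.id) hx).trans (map_zero _)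
  haveI : IsNoetherianRing A := ‹IsNoetherianRing Γ(E.obj.left.left, ⊤)›
  have hsub := Pure.univSubmersive_of_pure A (∀ t, Rc t) hpure
  let φ := Spec.map (CommRingCat.ofHom (algebraMap A (∀ t, Rc t)))
  let a : Spec (CommRingCat.of A) ⟶ S := E.obj.left.left.isoSpec.inv ≫ E.obj.left.hom
  haveI : LocallyOfFiniteType (φ ≫ a) := by
    rw [← MorphismProperty.cancel_left_of_respectsIso (P := @LocallyOfFiniteType) (sigmaSpec Rc)]
    have hd' : ∀ t, LocallyOfFiniteType (Sigma.ι (fun t => Spec (Rc t)) t ≫ sigmaSpec Rc ≫ φ ≫ a) := fun t => by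
      rw [ι_sigmaSpec_assoc, ← Spec.map_comp_assoc]
      haveI : IsAffine (sch 𝒳 (d t).left) := hda t
      haveI : IsAffine (𝒳.p.obj (d t).left).left := hda t
      haveI : IsAffine ((ofSp M.obj).p.obj η).left := hE
      have hb : Spec.map (CommRingCat.ofHom (algebraMap A (∀ t, Rc t)) ≫ CommRingCat.ofHom (Pi.evalRingHom _ t)) ≫ a =
          (sch 𝒳 (d t).left).isoSpec.inv ≫ (baseOver π (d t).left (d t).hom).left ≫ E.obj.left.hom := by
        rw [show CommRingCat.ofHom (algebraMap A (∀ t, Rc t)) ≫ CommRingCat.ofHom (Pi.evalRingHom (fun t => (Rc t : Type u)) t) =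
          (baseOver π (d t).left (d t).hom).left.appTop from rfl]
        show Spec.map _ ≫ E.obj.left.left.isoSpec.inv ≫ E.obj.left.hom = _
        erw [Scheme.isoSpec_inv_naturality_assoc]
        rfl
      rw [hb]
      have hw : (baseOver π (d t).left (d t).hom).left ≫ E.obj.left.hom = (𝒳.p.obj (d t).left).hom :=
        Over.w (baseOver π (d t).left (d t).hom)
      rw [hw]
      exact MorphismProperty.comp_mem _ (sch 𝒳 (d t).left).isoSpec.inv _ inferInstance (hdl t)
    rw [show sigmaSpec Rc ≫ φ ≫ a = Sigma.desc (fun t => Sigma.ι _ t ≫ sigmaSpec Rc ≫ φ ≫ a) from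
      Sigma.hom_ext _ _ fun t => (colimit.ι_desc (Cofan.mk _ fun t => Sigma.ι (fun t => Spec (Rc t)) t ≫ sigmaSpec Rc ≫ φ ≫ a) (Discrete.mk t)).symm]
    exact IsZariskiLocalAtSource.sigmaDesc hd'
  haveI : ∀ t, IsNoetherianRing (Rc t) := fun t => by
    haveI : IsAffine (sch 𝒳 (d t).left) := hda t
    haveI : IsLocallyNoetherian (sch 𝒳 (d t).left) := LocallyOfFiniteType.isLocallyNoetherian (𝒳.p.obj (d t).left).hom
    exact IsLocallyNoetherian.component_noetherian ⟨⊤, isAffineOpen_top _⟩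
  haveI : IsNoetherianRing A := ‹IsNoetherianRing Γ(E.obj.left.left, ⊤)›
  have ha : LocallyOfFiniteType a := Groth.Agent.S17518.result φ hsub a
  exact (MorphismProperty.cancel_left_of_respectsIso (P := @LocallyOfFiniteType)
    E.obj.left.left.isoSpec.inv E.obj.left.hom).1 ha

end Groth.Agent.H58LFT.GoodFT
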